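import Cfsg.Agent.SylowAbel.Wreath

/-!
The derived length of 2-groups in iterated wreath products.
-/

set_option autoImplicit false

namespace Cfsg.Agent.SylowDL

open Cfsg.Agent.SylowAbel
open scoped commutatorElement

theorem map_derived_le {K P : Type*} [Group K] [Group P] (κ : K →* P) (h : κ.range ≤ commutator P) :
    ∀ j : ℕ, (derivedSeries K j).map κ ≤ derivedSeries P (j + 1) := by
  intro j
  induction j with
  | zero => rw [derivedSeries_zero, ← MonoidHom.range_eq_map, derivedSeries_one]; exact h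
  | succ j ih =>
    rw [derivedSeries_succ K j, derivedSeries_succ P (j + 1), Subgroup.map_commutator]
    exact Subgroup.commutator_mono ih ih

/-- two commuting copies exchanged by an involution gain one derived step -/
theorem step {G : Type*} [Group G] (H : Subgroup G) (t : G) (ht : t * t = 1) (hH : IsPGroup 2 H)
    (hc : ∀ x ∈ H, ∀ y ∈ H, Commute x (t * y * t)) (hi : ∀ x ∈ H, t * x * t ∈ H → x = 1)
    {d : ℕ} (hd : derivedSeries H d ≠ ⊥) :
    ∃ H' : Subgroup G, IsPGroup 2 H' ∧ derivedSeries H' (d + 1) ≠ ⊥ ∧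
      ∀ L : Subgroup G, H ≤ L → t ∈ L → H' ≤ L := by
  have : Fact (Nat.Prime 2) := ⟨Nat.prime_two⟩
  have tc : ∀ a : G, t * (t * a) = a := fun a => by rw [← mul_assoc, ht, one_mul]
  let c : H →* G :=
    { toFun := fun y => t * y.1 * t
      map_one' := by simp [ht]
      map_mul' := fun a b => by simp only [Subgroup.coe_mul, mul_assoc, tc] }
  let ι : H × H →* G := MonoidHom.noncommCoprod H.subtype c fun x y => hc x.1 x.2 y.1 y.2
  have hι : ∀ x : H × H, ι x = x.1.1 * (t * x.2.1 * t) := fun _ => rfl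
  have hinj : Function.Injective ι := by
    rw [injective_iff_map_eq_one]
    intro x hx
    rw [hι] at hx
    have hy : x.2⁻¹.1 = 1 := by
      refine hi _ x.2⁻¹.2 ?_
      have hx1 := eq_inv_of_mul_eq_one_left hx
      have : t * x.2⁻¹.1 * t = x.1.1 := by
        rw [hx1, mul_inv_rev, mul_inv_rev, inv_eq_of_mul_eq_one_right ht, Subgroup.coe_inv]
        group
      rw [this]; exact x.1.2
    have hy' : x.2 = 1 := inv_eq_one.1 (Subtype.ext hy)
    rw [hy', Subgroup.coe_one, mul_one, ht, mul_one] at hx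
    exact Prod.ext (Subtype.ext hx) hy'
  have hswap : ∀ x : H × H, t * ι x * t = ι (x.2, x.1) := fun x => by
    rw [hι, hι, (hc x.2.1 x.2.2 x.1.1 x.1.2).eq]
    simp only [mul_assoc, tc, ht, mul_one]
  have hN : IsPGroup 2 ι.range := by
    rintro ⟨_, x, rfl⟩
    obtain ⟨i, hi'⟩ := hH x.1
    obtain ⟨j, hj'⟩ := hH x.2
    refine ⟨i + j, Subtype.ext ?_⟩
    show (ι x) ^ 2 ^ (i + j) = 1
    rw [← map_pow, show x ^ 2 ^ (i + j) = 1 from Prod.ext
      (by rw [Prod.pow_fst, pow_add, pow_mul, hi', one_pow, Prod.fst_one])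
      (by rw [Prod.pow_snd, add_comm, pow_add, pow_mul, hj', one_pow, Prod.snd_one]), map_one]
  have hmem : ∀ g : G, g ∈ ι.range → t * g * t ∈ ι.range := by
    rintro _ ⟨x, rfl⟩
    exact ⟨_, (hswap x).symm⟩
  have hnorm : Subgroup.zpowers t ≤ Subgroup.normalizer (ι.range : Set G) := by
    rw [Subgroup.zpowers_le, Subgroup.mem_normalizer_iff, inv_eq_of_mul_eq_one_right ht]
    refine fun g => ⟨hmem g, fun hg => ?_⟩
    have := hmem _ hg
    rwa [show t * (t * g * t) * t = g by simp only [mul_assoc, tc, ht, mul_one]] at this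
  have h2 : IsPGroup 2 (Subgroup.zpowers t) := by
    rintro ⟨_, k, rfl⟩
    refine ⟨1, Subtype.ext ?_⟩
    show (t ^ k) ^ (2 ^ 1) = 1
    rw [pow_one, ← zpow_natCast, ← zpow_mul, mul_comm, zpow_mul, zpow_natCast, pow_two, ht, one_zpow]
  refine ⟨ι.range ⊔ Subgroup.zpowers t, IsPGroup.to_sup_of_normal_left' hN h2 hnorm, ?_, fun L hL htL => ?_⟩
  · set H' := ι.range ⊔ Subgroup.zpowers t with hH'
    have htm : t ∈ H' := Subgroup.mem_sup_right (Subgroup.mem_zpowers t)
    have hιm : ∀ x, ι x ∈ H' := fun x => Subgroup.mem_sup_left ⟨x, rfl⟩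
    let ι' : H × H →* H' := ι.codRestrict H' hιm
    let K : Subgroup (H × H) := (commutator H').comap ι'
    have hK : ∀ x : H, (x, x⁻¹) ∈ K := fun x => by
      have e : ι' (x, x⁻¹) = ⁅ι' (x, 1), (⟨t, htm⟩ : H')⁆ := by
        refine Subtype.ext ?_
        show ι (x, x⁻¹) = ι (x, 1) * t * (ι (x, 1))⁻¹ * t⁻¹
        rw [hι, hι]
        simp only [Subgroup.coe_one, Subgroup.coe_inv, mul_one, ht, inv_eq_of_mul_eq_one_right ht, mul_assoc]
      show ι' (x, x⁻¹) ∈ commutator H'
      rw [e, commutator_def]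
      exact Subgroup.commutator_mem_commutator (Subgroup.mem_top _) (Subgroup.mem_top _)
    let φ : K →* H := (MonoidHom.fst H H).comp K.subtype
    have hφ : Function.Surjective φ := fun x => ⟨⟨_, hK x⟩, rfl⟩
    intro hbot
    refine hd ?_
    rw [← map_derivedSeries_eq hφ d, Subgroup.map_eq_bot_iff]
    intro z hz
    have h1 : ι' z.1 ∈ derivedSeries H' (d + 1) :=
      map_derived_le (ι'.comp K.subtype) (by rintro _ ⟨w, rfl⟩; exact w.2) d ⟨z, hz, rfl⟩
    rw [hbot, Subgroup.mem_bot] at h1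
    have h2 : z.1 = 1 := hinj (by rw [map_one]; exact congrArg Subtype.val h1)
    rw [MonoidHom.mem_ker]
    show z.1.1 = 1
    rw [h2]; rfl
  · refine sup_le ?_ (Subgroup.zpowers_le.2 htL)
    rintro _ ⟨x, rfl⟩
    rw [hι]
    exact mul_mem (hL x.1.2) (mul_mem (mul_mem htL (hL x.2.2)) htL)

variable (A : Type*) [Group A] (n : ℕ)

/-- elements living on the coordinates in `B` -/
def supp (B : Set (Fin n)) : Subgroup (Wr A (Fin n)) where
  carrier := {x | ∀ k, k ∉ B → x.left k = 1 ∧ x.right k = k}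
  one_mem' := fun _ _ => ⟨rfl, rfl⟩
  mul_mem' := by
    intro x y hx hy k hk
    obtain ⟨hxl, hxr⟩ := hx k hk
    obtain ⟨hyl, hyr⟩ := hy k hk
    have : x.right.symm k = k := by rw [Equiv.symm_apply_eq, hxr]
    exact ⟨by show x.left k * y.left (x.right.symm k) = 1; rw [this, hxl, hyl, one_mul],
      by show x.right (y.right k) = k; rw [hyr, hxr]⟩
  inv_mem' := by
    intro x hx k hk
    obtain ⟨hxl, hxr⟩ := hx k hk
    refine ⟨?_, by show x.right.symm k = k; rw [Equiv.symm_apply_eq, hxr]⟩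
    show (x.left (x.right⁻¹.symm k))⁻¹ = 1
    rw [show x.right⁻¹.symm k = x.right k from rfl, hxr, hxl, inv_one]

variable {A n}

theorem mem_supp {B : Set (Fin n)} {x : Wr A (Fin n)} :
    x ∈ supp A n B ↔ ∀ k, k ∉ B → x.left k = 1 ∧ x.right k = k := Iff.rfl

theorem supp_mono {B B' : Set (Fin n)} (h : B ⊆ B') : supp A n B ≤ supp A n B' :=
  fun _ hx k hk => hx k fun hB => hk (h hB)

theorem supp_right_mem {B : Set (Fin n)} {x : Wr A (Fin n)} (hx : x ∈ supp A n B) {k : Fin n} (hk : k ∈ B) :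
    x.right k ∈ B ∧ x.right.symm k ∈ B := by
  constructor
  · by_contra h
    have := (hx _ h).2
    exact h (by rwa [x.right.injective this])
  · by_contra h
    have := (hx _ h).2
    rw [Equiv.apply_symm_apply] at this
    exact h (this ▸ hk)

theorem supp_commute {B B' : Set (Fin n)} (hd : ∀ k, k ∈ B → k ∉ B') {x y : Wr A (Fin n)}
    (hx : x ∈ supp A n B) (hy : y ∈ supp A n B') : Commute x y := by
  refine SemidirectProduct.ext (funext fun k => ?_) (Equiv.ext fun k => ?_)
  · show x.left k * y.left (x.right.symm k) = y.left k * x.left (y.right.symm k)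
    by_cases hk : k ∈ B
    · rw [(hy _ (hd _ (supp_right_mem hx hk).2)).1, (hy k (hd k hk)).1,
        show y.right.symm k = k by rw [Equiv.symm_apply_eq, (hy k (hd k hk)).2], one_mul, mul_one]
    · obtain ⟨h1, h2⟩ := hx k hk
      rw [show x.right.symm k = k by rw [Equiv.symm_apply_eq, h2], h1, one_mul]
      by_cases hk' : k ∈ B'
      · rw [(hx _ fun h => hd _ h (supp_right_mem hy hk').2).1, mul_one]
      · rw [show y.right.symm k = k by rw [Equiv.symm_apply_eq, (hy k hk').2], h1, mul_one]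
  · show x.right (y.right k) = y.right (x.right k)
    by_cases hk : k ∈ B
    · rw [(hy k (hd k hk)).2, (hy _ (hd _ (supp_right_mem hx hk).1)).2]
    · rw [(hx k hk).2]
      by_cases hk' : k ∈ B'
      · rw [(hx _ fun h => hd _ h (supp_right_mem hy hk').1).2]
      · rw [(hy k hk').2, (hx k hk).2]

theorem supp_inf {B B' : Set (Fin n)} (hd : ∀ k, k ∈ B → k ∉ B') {x : Wr A (Fin n)}
    (hx : x ∈ supp A n B) (hx' : x ∈ supp A n B') : x = 1 := by
  have : ∀ k, x.left k = 1 ∧ x.right k = k := fun k => by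
    by_cases hk : k ∈ B
    · exact hx' k (hd k hk)
    · exact hx k hk
  exact SemidirectProduct.ext (funext fun k => (this k).1) (Equiv.ext fun k => (this k).2)

theorem supp_conj {B B' : Set (Fin n)} (σ : Equiv.Perm (Fin n)) (hσ : σ * σ = 1) (hB : ∀ k, k ∈ B → σ k ∈ B')
    {x : Wr A (Fin n)} (hx : x ∈ supp A n B) :
    SemidirectProduct.inr σ * x * SemidirectProduct.inr σ ∈ supp A n B' := by
  intro k hk
  have hss : ∀ j, σ (σ j) = j := fun j => Equiv.ext_iff.1 hσ j
  have hsym : σ.symm k = σ k := by rw [Equiv.symm_apply_eq, hss]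
  have hk' : σ k ∉ B := fun h => hk (by have := hB _ h; rwa [hss] at this)
  obtain ⟨h1, h2⟩ := hx _ hk'
  constructor
  · show (1 * x.left (σ.symm k)) * (1 : A) = 1
    rw [hsym, h1, one_mul, mul_one]
  · show σ (x.right (σ k)) = k
    rw [h2, hss]

/-- the iterated wreath product inside the coordinates below `2 ^ a` -/
theorem exists_deep (hA : IsPGroup 2 A) (hAd : derivedSeries A 1 ≠ ⊥) :
    ∀ a : ℕ, 2 ^ a ≤ n → ∃ H : Subgroup (Wr A (Fin n)), IsPGroup 2 H ∧
      H ≤ supp A n {k | k.val < 2 ^ a} ∧ derivedSeries H (a + 1) ≠ ⊥ := by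
  classical
  intro a
  induction a with
  | zero =>
    intro ha
    let k₀ : Fin n := ⟨0, by rw [pow_zero] at ha; omega⟩
    let e : A →* Wr A (Fin n) := SemidirectProduct.inl.comp (MonoidHom.mulSingle (fun _ : Fin n => A) k₀)
    have he : Function.Injective e := fun x y h => by
      simpa [e] using congrArg (fun w : Wr A (Fin n) => w.left k₀) h
    refine ⟨e.range, hA.of_surjective e.rangeRestrict e.rangeRestrict_surjective, ?_, fun hbot => hAd ?_⟩
    · rintro _ ⟨x, rfl⟩ k hk
      refine ⟨Pi.mulSingle_eq_of_ne ?_ _, rfl⟩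
      rintro rfl
      exact hk (by simp [k₀])
    · have h := map_derivedSeries_le_derivedSeries e.rangeRestrict (0 + 1)
      rw [hbot, le_bot_iff, Subgroup.map_eq_bot_iff_of_injective _ (e.rangeRestrict_injective_iff.2 he)] at h
      exact h
  | succ a ih =>
    intro ha
    rw [pow_succ] at ha
    obtain ⟨H, hH, hHs, hHd⟩ := ih (by omega)
    let g : Fin n → Fin n := fun k =>
      if h : k.val < 2 ^ a then ⟨k.val + 2 ^ a, by omega⟩
      else if h' : k.val < 2 ^ (a + 1) then ⟨k.val - 2 ^ a, by omega⟩ else k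
    have hg : Function.Involutive g := fun k => by
      simp only [g]
      by_cases h : k.val < 2 ^ a
      · rw [dif_pos h]
        simp [pow_succ, show ¬ k.val + 2 ^ a < 2 ^ a by omega, show k.val + 2 ^ a < 2 ^ a * 2 by omega]
      · rw [dif_neg h]
        by_cases h' : k.val < 2 ^ (a + 1)
        · rw [dif_pos h']
          rw [pow_succ] at h'
          simp [show k.val - 2 ^ a < 2 ^ a by omega]
          exact Fin.ext (show k.val - 2 ^ a + 2 ^ a = k.val by omega)
        · simp [h, h']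
    let σ : Equiv.Perm (Fin n) := hg.toPerm
    have hσ : σ * σ = 1 := Equiv.ext fun k => hg k
    let B : Set (Fin n) := {k | k.val < 2 ^ a}
    let B' : Set (Fin n) := {k | 2 ^ a ≤ k.val ∧ k.val < 2 ^ (a + 1)}
    have hB : ∀ k, k ∈ B → σ k ∈ B' := fun k hk => by
      replace hk : k.val < 2 ^ a := hk
      show 2 ^ a ≤ (g k).val ∧ (g k).val < 2 ^ (a + 1)
      simp only [g, dif_pos hk, pow_succ]
      omega
    have hd : ∀ k, k ∈ B → k ∉ B' := fun k hk hk' => absurd hk'.1 (not_le.2 hk)
    set t : Wr A (Fin n) := SemidirectProduct.inr σ with ht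
    obtain ⟨H', hH', hH'd, hH's⟩ := step H t (by rw [ht, ← map_mul, hσ, map_one]) hH
      (fun x hx y hy => supp_commute hd (hHs hx) (supp_conj σ hσ hB (hHs hy)))
      (fun x hx hx' => by
        have := supp_inf hd (hHs hx') (supp_conj σ hσ hB (hHs hx))
        have h1 : t * (t * x * t) * t = t * 1 * t := by rw [this]
        simpa [ht, mul_assoc, ← map_mul, hσ, ← mul_assoc (SemidirectProduct.inr σ) (SemidirectProduct.inr σ)]
          using h1)
      hHd
    refine ⟨H', hH', hH's _ (hHs.trans (supp_mono fun k (hk : k.val < 2 ^ a) => ?_)) fun k hk => ⟨rfl, ?_⟩, hH'd⟩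
    · show k.val < 2 ^ (a + 1)
      rw [pow_succ]; omega
    · replace hk : ¬ k.val < 2 ^ (a + 1) := hk
      have h1 : ¬ k.val < 2 ^ a := by rw [pow_succ] at hk; omega
      show g k = k
      simp only [g, dif_neg h1, dif_neg hk]

end Cfsg.Agent.SylowDL
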