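import Cfsg.Agent.SylowAbel.Classical
import Cfsg.Agent.SylowDL.Wreath
import Cfsg.Agent.PLinearDL.Main

/-!
The derived length of Sylow 2-subgroups of symplectic groups in odd characteristic.
-/

set_option autoImplicit false

namespace Cfsg.Agent.SylowDL

open Matrix Cfsg.Agent.SylowAbel
open scoped commutatorElement

variable {F : Type*} [Field F] [Fintype F]

local notation "SL2" => Matrix.SpecialLinearGroup (Fin 2) F

theorem sp_upper (n : ℕ) (R : Subgroup (Matrix.symplecticGroup (Fin n) F)) (hR : IsPGroup 2 R) :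
    derivedSeries R (Nat.log 2 (2 * n) + 1) = ⊥ := by
  classical
  have : Fact (Nat.Prime 2) := ⟨Nat.prime_two⟩
  let ρ : R →* Module.End F (Fin n ⊕ Fin n → F) :=
    (Matrix.toLinAlgEquiv' : Matrix (Fin n ⊕ Fin n) (Fin n ⊕ Fin n) F ≃ₐ[F] _).toAlgHom.toMonoidHom.comp
      ((Matrix.symplecticGroup (Fin n) F).subtype.comp R.subtype)
  have hρ : Function.Injective ρ := (Matrix.toLinAlgEquiv' :
    Matrix (Fin n ⊕ Fin n) (Fin n ⊕ Fin n) F ≃ₐ[F] _).injective.comp
      (Subtype.val_injective.comp Subtype.val_injective)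
  rw [eq_bot_iff]
  intro g hg
  rw [Subgroup.mem_bot]
  refine hρ ((PLinearDL.bound hR ρ g ?_).trans (map_one ρ).symm)
  rwa [Classical.finrank_symp]

theorem sp_lower (hF : Odd (Fintype.card F)) (n : ℕ) (hn : 1 ≤ n)
    (R : Sylow 2 (Matrix.symplecticGroup (Fin n) F)) :
    derivedSeries (R : Subgroup (Matrix.symplecticGroup (Fin n) F)) (Nat.log 2 (2 * n)) ≠ ⊥ := by
  classical
  haveI : Fact (Nat.Prime 2) := ⟨Nat.prime_two⟩
  haveI : Nonempty (Fin n) := ⟨⟨0, hn⟩⟩
  let Q : Sylow 2 SL2 := Classical.arbitrary _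
  let θ : (Q : Subgroup SL2) →* Matrix (Fin 2) (Fin 2) F :=
    { toFun := fun x => ((x : SL2) : Matrix (Fin 2) (Fin 2) F)
      map_one' := rfl
      map_mul' := fun _ _ => rfl }
  have hθ : Function.Injective θ := fun x y h => Subtype.ext (Subtype.ext h)
  let Φ : Wr (Q : Subgroup SL2) (Fin n) →* Matrix (Fin n ⊕ Fin n) (Fin n ⊕ Fin n) F :=
    (Matrix.reindexAlgEquiv F F (planeEquiv n)).toMulEquiv.toMonoidHom.comp (wrHom θ)
  have hmem : ∀ x, Φ x ∈ Matrix.symplecticGroup (Fin n) F := by
    intro x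
    rw [SymplecticGroup.mem_iff]
    show Matrix.reindex _ _ (wrHom θ x) * _ * (Matrix.reindex _ _ (wrHom θ x))ᵀ = _
    rw [← plane_form]
    simp only [Matrix.reindex_apply, Matrix.transpose_submatrix, Matrix.submatrix_mul_equiv]
    congr 1
    set Pm := (Matrix.permMatrixHom (blkPerm (m := Fin 2) x.right) :
      Matrix (Fin 2 × Fin n) (Fin 2 × Fin n) F) with hPm
    have h1 : Pm * Pmᵀ = 1 := by
      rw [hPm, show (Matrix.permMatrixHom (blkPerm (m := Fin 2) x.right) :
        Matrix (Fin 2 × Fin n) (Fin 2 × Fin n) F) = (blkPerm x.right)⁻¹.permMatrix F from rfl,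
        Matrix.transpose_permMatrix, ← Matrix.permMatrix_mul, inv_inv, mul_inv_cancel,
        Matrix.permMatrix_one]
    rw [wrHom_apply, Matrix.transpose_mul]
    calc blockDiagonal (fun k => θ (x.left k)) * Pm * blockDiagonal (fun _ => !![0, -1; 1, 0]) *
          (Pmᵀ * (blockDiagonal fun k => θ (x.left k))ᵀ)
        = blockDiagonal (fun k => θ (x.left k)) *
            (Pm * blockDiagonal (fun _ => !![0, -1; 1, 0]) * Pmᵀ) *
          (blockDiagonal fun k => θ (x.left k))ᵀ := by simp only [mul_assoc]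
      _ = _ := by
        rw [conj_perm, mul_assoc _ Pm, h1, mul_one, Matrix.blockDiagonal_transpose, ← blockDiagonal_mul,
          ← blockDiagonal_mul]
        congr 1
        funext k
        rw [det_mul_form, show (θ (x.left k)).det = 1 from (x.left k).1.2, one_smul]
  let f : Wr (Q : Subgroup SL2) (Fin n) →* Matrix.symplecticGroup (Fin n) F := Φ.codRestrict _ hmem
  have hf : Function.Injective f := fun x y h => wrHom_injective θ hθ
    ((Matrix.reindexAlgEquiv F F (planeEquiv n)).injective (congrArg Subtype.val h))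
  have hQd : derivedSeries (Q : Subgroup SL2) 1 ≠ ⊥ := by
    obtain ⟨u, X, hQ⟩ := GroupSub.SpFour.exists_qok hF Q
    intro hbot
    rw [derivedSeries_one] at hbot
    have h : ⁅(⟨u, hQ.uMem⟩ : (Q : Subgroup SL2)), ⟨X, hQ.XMem⟩⁆ ∈ commutator (Q : Subgroup SL2) := by
      rw [commutator_def]
      exact Subgroup.commutator_mem_commutator (Subgroup.mem_top _) (Subgroup.mem_top _)
    rw [hbot, Subgroup.mem_bot, commutatorElement_eq_one_iff_mul_comm] at h
    have h' : u * X = X * u := congrArg Subtype.val h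
    rw [hQ.anti] at h'
    refine GroupSub.SpFour.negOne_ne (Classical.two_ne_zero_of_odd hF) ?_
    calc (-1 : SL2) = -(u * X) * (u * X)⁻¹ := by rw [neg_mul, mul_inv_cancel]
      _ = u * X * (u * X)⁻¹ := by rw [← h']
      _ = 1 := mul_inv_cancel _
  have hpow : 2 ^ Nat.log 2 n ≤ n := Nat.pow_log_le_self 2 (by omega)
  obtain ⟨H, hH, -, hHd⟩ := exists_deep (n := n) Q.2 hQd (Nat.log 2 n) hpow
  have hlog : Nat.log 2 (2 * n) = Nat.log 2 n + 1 := by
    rw [mul_comm]; exact Nat.log_mul_base one_lt_two (by omega)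
  obtain ⟨T, hT⟩ := (hH.map f).exists_le_sylow
  let j : H →* (R : Subgroup (Matrix.symplecticGroup (Fin n) F)) :=
    (Sylow.equiv T R).toMonoidHom.comp ((Subgroup.inclusion hT).comp (f.subgroupMap H))
  have hj : Function.Injective j := (Sylow.equiv T R).injective.comp
    ((Subgroup.inclusion_injective hT).comp fun x y h =>
      Subtype.ext (hf (congrArg Subtype.val h)))
  intro hbot
  rw [hlog] at hbot
  have h := map_derivedSeries_le_derivedSeries j (Nat.log 2 n + 1)
  rw [hbot, le_bot_iff, Subgroup.map_eq_bot_iff_of_injective _ hj] at h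
  exact hHd h

end Cfsg.Agent.SylowDL
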