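import Cfsg.Agent.SylowDL.WreathP
import Cfsg.Agent.SylowAbel.Matrix
import Cfsg.Agent.MatModule.LargeSylow

/-!
The derived length of Sylow subgroups of general linear groups in cross characteristic, odd primes.
-/

set_option autoImplicit false

namespace Cfsg.Agent.SylowDL

open Matrix Cfsg.Agent.SylowAbel Cfsg.Agent.LargeSylow

variable {p : ℕ} [Fact p.Prime]

theorem val_gl_odd (hp : p ≠ 2) {q : ℕ} (hq : 2 ≤ q) (hpq : ¬ p ∣ q) (n : ℕ) :
    padicValNat p (∏ i : Fin n, (q ^ n - q ^ (i : ℕ))) =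
      n / orderOf (q : ZMod p) * ex q p + padicValNat p (n / orderOf (q : ZMod p)).factorial := by
  have hpp : p.Prime := Fact.out
  set e := orderOf (q : ZMod p) with he
  have he0 : 0 < e := order_pos hpq
  have hne : ∀ i, q ^ (i + 1) - 1 ≠ 0 := fun i => Nat.sub_ne_zero_of_lt (Nat.one_lt_pow (by omega) hq)
  rw [Classical.prod_gl_eq, padicValNat.mul (pow_ne_zero _ (by omega))
    (Finset.prod_ne_zero_iff.2 fun i _ => hne i),
    padicValNat.eq_zero_of_not_dvd fun h => hpq (hpp.dvd_of_dvd_pow h), zero_add]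
  induction n with
  | zero => simp
  | succ n ih =>
    rw [Finset.prod_range_succ, padicValNat.mul (Finset.prod_ne_zero_iff.2 fun i _ => hne i) (hne n), ih,
      Nat.succ_div]
    by_cases hd : e ∣ n + 1
    · rw [if_pos hd]
      have hk : n + 1 = e * (n / e + 1) := by
        rw [show n / e + 1 = (n + 1) / e by rw [Nat.succ_div, if_pos hd], Nat.mul_div_cancel' hd]
      rw [hk, pow_mul, show (q ^ e) ^ (n / e + 1) - 1 = (q ^ e) ^ (n / e + 1) - 1 ^ (n / e + 1) by rw [one_pow],
        padicValNat.pow_sub_pow (p := p) (hpp.odd_of_ne_two hp) (Nat.one_lt_pow he0.ne' hq)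
          ((dvd_sub_iff (by omega) e).2 dvd_rfl) (fun h => hpq (hpp.dvd_of_dvd_pow h)) (Nat.succ_ne_zero _),
        Nat.factorial_succ, padicValNat.mul (Nat.succ_ne_zero _) (Nat.factorial_ne_zero _)]
      show _ + (ex q p + _) = _
      ring
    · rw [if_neg hd, add_zero, padicValNat.eq_zero_of_not_dvd fun h => hd ((dvd_sub_iff (by omega) _).1 h), add_zero]

theorem gl_derived_length (hp : p ≠ 2) (F : Type*) [Field F] [Fintype F] (q : ℕ) (hq : Fintype.card F = q)
    (hpq : ¬ p ∣ q) (n : ℕ) (hn : orderOf (q : ZMod p) ≤ n) (S : Sylow p (GL (Fin n) F)) :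
    derivedSeries (S : Subgroup (GL (Fin n) F)) (Nat.log p (n / orderOf (q : ZMod p)) + 1) = ⊥ ∧
      derivedSeries (S : Subgroup (GL (Fin n) F)) (Nat.log p (n / orderOf (q : ZMod p))) ≠ ⊥ := by
  classical
  have hpp : p.Prime := Fact.out
  have hq2 : 2 ≤ q := two_le_q hq
  set e := orderOf (q : ZMod p) with he
  have he0 : 0 < e := order_pos hpq
  set w := n / e with hw
  have hw0 : 1 ≤ w := (Nat.one_le_div_iff he0).2 hn
  set k := Nat.log p w with hk
  have hs1 : 1 ≤ ex q p := one_le_padicValNat_of_dvd (Nat.sub_ne_zero_of_lt (Nat.one_lt_pow he0.ne' hq2))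
    ((dvd_sub_iff (by omega) e).2 dvd_rfl)
  haveI : NeZero (p ^ ex q p) := ⟨pow_ne_zero _ hpp.ne_zero⟩
  obtain ⟨g, hg⟩ := exists_gl_orderOf (F := F) (k := p ^ ex q p) hq he0 pow_ex_dvd
  obtain ⟨φ, hφ⟩ := exists_cyclic_hom hg
  set A := Multiplicative (ZMod (p ^ ex q p)) with hA
  have hAc : Nat.card A = p ^ ex q p := by
    rw [hA, Nat.card_congr Multiplicative.toAdd, Nat.card_zmod]
  have hAp : IsPGroup p A := IsPGroup.of_card hAc
  let θ : A →* Matrix (Fin e) (Fin e) F := (Units.coeHom _).comp φ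
  have hθ : Function.Injective θ := fun x y h => hφ (Units.ext h)
  let ι : (Fin e × Fin w) ⊕ Fin (n % e) ≃ Fin n := Fintype.equivFinOfCardEq (by
    simp only [Fintype.card_sum, Fintype.card_prod, Fintype.card_fin, hw]
    exact Nat.div_add_mod n e)
  let Φ : Wr A (Fin w) →* Matrix ((Fin e × Fin w) ⊕ Fin (n % e)) ((Fin e × Fin w) ⊕ Fin (n % e)) F :=
    { toFun := fun x => Matrix.fromBlocks (wrHom θ x) 0 0 1
      map_one' := by simp
      map_mul' := fun x y => by rw [Matrix.fromBlocks_multiply]; simp [map_mul] }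
  let Ψ : Wr A (Fin w) →* GL (Fin n) F :=
    ((Matrix.reindexAlgEquiv F F ι).toMulEquiv.toMonoidHom.comp Φ).toHomUnits
  haveI : Nonempty (Fin e) := ⟨⟨0, he0⟩⟩
  have hΨ : Function.Injective Ψ := fun x y h => wrHom_injective θ hθ
    (Matrix.fromBlocks_inj.1 (show Φ x = Φ y from
      (Matrix.reindexAlgEquiv F F ι).injective (congrArg (fun u : GL (Fin n) F => u.1) h))).1
  let P : Sylow p (Equiv.Perm (Fin w)) := Classical.arbitrary _
  have hfi : Function.Injective (Ψ.comp (wrSub (1 : A →* Unit) (P : Subgroup (Equiv.Perm (Fin w)))).subtype) :=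
    hΨ.comp (Subgroup.subtype_injective _)
  have hc : Nat.card (wrSub (1 : A →* Unit) (P : Subgroup (Equiv.Perm (Fin w)))) = p ^ padicValNat p (Nat.card (GL (Fin n) F)) := by
    let e' : wrSub (1 : A →* Unit) (P : Subgroup (Equiv.Perm (Fin w))) ≃ (Fin w → A) × (P : Subgroup (Equiv.Perm (Fin w))) :=
      { toFun := fun x => (x.1.left, ⟨x.1.right, x.2.2⟩)
        invFun := fun y => ⟨⟨y.1, y.2.1⟩, Subsingleton.elim _ _, y.2.2⟩
        left_inv := fun _ => rfl
        right_inv := fun _ => rfl }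
    rw [Nat.card_congr e', Nat.card_prod, Nat.card_fun, hAc, Nat.card_fin, P.card_eq_multiplicity,
      Nat.card_perm, Nat.card_fin, ← pow_mul, ← pow_add, Nat.factorization_def _ hpp,
      Matrix.card_GL_field, hq, val_gl_odd hp hq2 hpq n, ← hw]
    ring
  obtain ⟨χ'⟩ := exists_sylow_equiv S _ hfi hc
  have χ := χ'.symm
  have hlt : Fintype.card (Fin w) < p ^ (k + 1) := by
    rw [Fintype.card_fin]; exact Nat.lt_pow_succ_log_self hpp.one_lt w
  refine ⟨?_, ?_⟩
  · rw [← map_derivedSeries_eq (f := χ.toMonoidHom) χ.surjective,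
      wrSub_derived_eq_bot (P : Subgroup (Equiv.Perm (Fin w))) P.2 k hlt, Subgroup.map_bot]
  · have : Nontrivial A := Finite.one_lt_card_iff_nontrivial.1 (hAc ▸ Nat.one_lt_pow (by omega) hpp.one_lt)
    obtain ⟨H, hH, hHd⟩ := exists_deep_p k w (Nat.pow_log_le_self p (by omega)) A hAp 0
      (by rw [derivedSeries_zero]; exact top_ne_bot)
    rw [zero_add] at hHd
    obtain ⟨T', hT'⟩ := (hH.map Ψ).exists_le_sylow
    let j : H →* (S : Subgroup (GL (Fin n) F)) :=
      (Sylow.equiv T' S).toMonoidHom.comp ((Subgroup.inclusion hT').comp (Ψ.subgroupMap H))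
    have hj : Function.Injective j := (Sylow.equiv T' S).injective.comp
      ((Subgroup.inclusion_injective hT').comp fun x y h => Subtype.ext (hΨ (congrArg Subtype.val h)))
    intro hbot
    have h := map_derivedSeries_le_derivedSeries j k
    rw [hbot, le_bot_iff, Subgroup.map_eq_bot_iff_of_injective _ hj] at h
    exact hHd h

end Cfsg.Agent.SylowDL
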