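import Cfsg.Agent.SylowDL.Wreath
import Cfsg.Agent.PLinearDL.Main

/-!
The derived length of p-subgroups of permutation groups and of wreath products.
-/

set_option autoImplicit false

namespace Cfsg.Agent.SylowDL

open Cfsg.Agent.SylowAbel
open scoped commutatorElement

universe u

variable {p : ℕ} [Fact p.Prime]

theorem exists_commutator_le {P : Type*} [Group P] [Finite P] (hP : IsPGroup p P) {H : Subgroup P} (hH : H ≠ ⊤) :
    ∃ M : Subgroup P, H ≤ M ∧ M ≠ ⊤ ∧ commutator P ≤ M := by
  obtain ⟨M, hM, hHM⟩ := (eq_top_or_exists_le_coatom H).resolve_left hH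
  have : Group.IsNilpotent P := hP.isNilpotent
  have hn : M.Normal := Subgroup.NormalizerCondition.normal_of_coatom M normalizerCondition_of_isNilpotent hM
  refine ⟨M, hHM, hM.1, ?_⟩
  have hnt : Nontrivial (P ⧸ M) := QuotientGroup.nontrivial_iff.2 hM.1
  have hc := (hP.to_quotient M).center_nontrivial
  have htop : (Subgroup.center (P ⧸ M)).comap (QuotientGroup.mk' M) = ⊤ := by
    refine hM.2 _ (lt_of_le_of_ne (fun m hm => ?_) fun h => ?_)
    · rw [Subgroup.mem_comap, show QuotientGroup.mk' M m = 1 from (QuotientGroup.eq_one_iff m).2 hm]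
      exact one_mem _
    · refine (Subgroup.nontrivial_iff_ne_bot _).1 hc (eq_bot_iff.2 fun z hz => ?_)
      obtain ⟨x, rfl⟩ := QuotientGroup.mk'_surjective M z
      rw [Subgroup.mem_bot]
      exact (QuotientGroup.eq_one_iff x).2 (h ▸ hz)
  rw [commutator_def, Subgroup.commutator_le]
  intro a _ b _
  have ha : QuotientGroup.mk' M a ∈ Subgroup.center (P ⧸ M) := by
    rw [← Subgroup.mem_comap, htop]; exact Subgroup.mem_top a
  rw [← QuotientGroup.eq_one_iff, ← QuotientGroup.mk'_apply, map_commutatorElement,
    commutatorElement_eq_one_iff_mul_comm]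
  exact (Subgroup.mem_center_iff.1 ha _).symm

theorem derived_le_of_index :
    ∀ (j : ℕ) {P : Type u} [Group P] [Finite P], IsPGroup p P → ∀ H : Subgroup P, H.index ∣ p ^ j →
      derivedSeries P j ≤ H := by
  intro j
  induction j with
  | zero =>
    intro P _ _ _ H hH
    rw [show H = ⊤ from Subgroup.index_eq_one.1 (Nat.dvd_one.1 (by simpa using hH))]
    exact le_top
  | succ j ih =>
    intro P _ _ hP H hH
    rcases eq_or_ne H ⊤ with rfl | hne
    · exact le_top
    obtain ⟨M, hHM, hMne, hMc⟩ := exists_commutator_le hP hne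
    have hMi : p ∣ M.index := by
      obtain ⟨i, hi⟩ := hP.index M
      rcases i with _ | i
      · exact absurd (Subgroup.index_eq_one.1 (by rw [hi, pow_zero])) hMne
      · rw [hi]; exact dvd_pow_self p (Nat.succ_ne_zero i)
    have hidx : (H.subgroupOf M).index ∣ p ^ j := by
      have h := Subgroup.relIndex_mul_index hHM
      have h' : p * H.relIndex M ∣ p * p ^ j := by
        rw [← pow_succ', mul_comm]
        exact (Nat.mul_dvd_mul_left _ hMi).trans (h ▸ hH)
      exact Nat.dvd_of_mul_dvd_mul_left (Fact.out : p.Prime).pos h'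
    refine (PLinearDL.derivedSeries_succ_le hMc j).trans ?_
    rintro _ ⟨x, hx, rfl⟩
    exact ih (hP.to_subgroup M) (H.subgroupOf M) hidx hx

theorem perm_derived_eq_bot {o : Type*} [Finite o] (P : Subgroup (Equiv.Perm o)) (hP : IsPGroup p P) (k : ℕ)
    (hk : Nat.card o < p ^ (k + 1)) : derivedSeries P k = ⊥ := by
  rw [eq_bot_iff]
  intro g hg
  rw [Subgroup.mem_bot]
  refine Subtype.ext (Equiv.ext fun x => ?_)
  obtain ⟨i, hi⟩ := hP.index (MulAction.stabilizer P x)
  have hle : p ^ i ≤ Nat.card o := by
    rw [← hi, MulAction.index_stabilizer]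
    exact Set.ncard_le_card _
  have hik : i ≤ k := by
    by_contra h
    have := Nat.pow_le_pow_right (Fact.out : p.Prime).pos (show k + 1 ≤ i by omega)
    omega
  exact derived_le_of_index k hP (MulAction.stabilizer P x) (hi ▸ pow_dvd_pow p hik) hg

theorem wrSub_derived_eq_bot {A : Type*} [CommGroup A] {o : Type*} [Fintype o] (P : Subgroup (Equiv.Perm o))
    (hP : IsPGroup p P) (k : ℕ) (hk : Fintype.card o < p ^ (k + 1)) :
    derivedSeries (wrSub (1 : A →* Unit) P) (k + 1) = ⊥ := by
  have hb := perm_derived_eq_bot P hP k (by rwa [Nat.card_eq_fintype_card])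
  let r : wrSub (1 : A →* Unit) P →* P :=
    { toFun := fun x => ⟨x.1.right, x.2.2⟩
      map_one' := rfl
      map_mul' := fun _ _ => rfl }
  have hr : ∀ x ∈ derivedSeries (wrSub (1 : A →* Unit) P) k, x.1.right = 1 := fun x hx => by
    have := map_derivedSeries_le_derivedSeries r k ⟨x, hx, rfl⟩
    rw [hb, Subgroup.mem_bot] at this
    exact congrArg Subtype.val this
  rw [derivedSeries_succ, eq_bot_iff, Subgroup.commutator_le]
  intro a ha b hb'
  rw [Subgroup.mem_bot, commutatorElement_eq_one_iff_mul_comm]
  refine Subtype.ext (SemidirectProduct.ext (funext fun i => ?_) ?_)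
  · show a.1.left i * b.1.left (a.1.right.symm i) = b.1.left i * a.1.left (b.1.right.symm i)
    rw [hr a ha, hr b hb']
    exact mul_comm _ _
  · show a.1.right * b.1.right = b.1.right * a.1.right
    rw [hr a ha, hr b hb']

/-- a wreath product inside a larger one -/
noncomputable def flat {A B : Type*} [Group A] [Group B] {o₁ o₂ : Type*} (φ : B →* Wr A o₂) :
    Wr B o₁ →* Wr A (o₁ × o₂) where
  toFun x := ⟨fun z => (φ (x.left z.1)).left z.2,
    { toFun := fun z => (x.right z.1, (φ (x.left (x.right z.1))).right z.2)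
      invFun := fun z => (x.right.symm z.1, (φ (x.left z.1)).right.symm z.2)
      left_inv := fun z => by simp
      right_inv := fun z => by simp }⟩
  map_one' := by
    refine SemidirectProduct.ext (funext fun z => ?_) (Equiv.ext fun z => ?_)
    · show (φ 1).left z.2 = 1
      rw [map_one]; rfl
    · show (z.1, (φ 1).right z.2) = z
      rw [map_one]; rfl
  map_mul' x y := by
    refine SemidirectProduct.ext (funext fun z => ?_) (Equiv.ext fun z => ?_)
    · show (φ (x.left z.1 * y.left (x.right.symm z.1))).left z.2 = _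
      rw [map_mul]
      rfl
    · show (x.right (y.right z.1), (φ (x.left (x.right (y.right z.1)) *
        y.left (x.right.symm (x.right (y.right z.1))))).right z.2) = _
      rw [Equiv.symm_apply_apply, map_mul]
      rfl

theorem flat_injective {A B : Type*} [Group A] [Group B] {o₁ o₂ : Type*} [Nonempty o₂] (φ : B →* Wr A o₂)
    (hφ : Function.Injective φ) : Function.Injective (flat (o₁ := o₁) φ) := by
  intro x y h
  obtain ⟨i₀⟩ := ‹Nonempty o₂›
  have hr : x.right = y.right := Equiv.ext fun k =>
    congrArg Prod.fst (Equiv.ext_iff.1 (congrArg SemidirectProduct.right h) (k, i₀))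
  refine SemidirectProduct.ext (funext fun k => hφ (SemidirectProduct.ext (funext fun i => ?_) (Equiv.ext fun i => ?_)))
    hr
  · exact congrFun (congrArg SemidirectProduct.left h) (k, i)
  · have h1 := congrArg Prod.snd (Equiv.ext_iff.1 (congrArg SemidirectProduct.right h) (x.right.symm k, i))
    change (φ (x.left (x.right (x.right.symm k)))).right i = (φ (y.left (y.right (x.right.symm k)))).right i at h1
    rwa [← hr, Equiv.apply_symm_apply] at h1

/-- extension along an embedding of the index sets -/
noncomputable def extend {A : Type*} [Group A] {o o' : Type*} (j : o ↪ o') : Wr A o →* Wr A o' where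
  toFun x := ⟨Function.extend j x.left 1, x.right.viaEmbedding j⟩
  map_one' := by
    refine SemidirectProduct.ext (funext fun z => ?_) ?_
    · by_cases hz : ∃ a, j a = z
      · obtain ⟨a, rfl⟩ := hz
        show Function.extend j (1 : o → A) 1 (j a) = 1
        rw [j.injective.extend_apply]; rfl
      · show Function.extend j (1 : o → A) 1 z = 1
        rw [Function.extend_apply' _ _ _ hz]; rfl
    · exact map_one (Equiv.Perm.viaEmbeddingHom j)
  map_mul' x y := by
    refine SemidirectProduct.ext (funext fun z => ?_) ?_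
    · show Function.extend j (fun k => x.left k * y.left (x.right.symm k)) 1 z =
        Function.extend j x.left 1 z * Function.extend j y.left 1 ((x.right.viaEmbedding j).symm z)
      by_cases hz : ∃ a, j a = z
      · obtain ⟨a, rfl⟩ := hz
        have : (x.right.viaEmbedding j).symm (j a) = j (x.right.symm a) := by
          rw [Equiv.symm_apply_eq, Equiv.Perm.viaEmbedding_apply, Equiv.apply_symm_apply]
        rw [this, j.injective.extend_apply, j.injective.extend_apply, j.injective.extend_apply]
      · have : (x.right.viaEmbedding j).symm z = z := by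
          rw [Equiv.symm_apply_eq, Equiv.Perm.viaEmbedding_apply_of_notMem _ _ _ hz]
        rw [this, Function.extend_apply' _ _ _ hz, Function.extend_apply' _ _ _ hz,
          Function.extend_apply' _ _ _ hz]
        simp
    · exact map_mul (Equiv.Perm.viaEmbeddingHom j) x.right y.right

theorem extend_injective {A : Type*} [Group A] {o o' : Type*} (j : o ↪ o') :
    Function.Injective (extend (A := A) j) := by
  intro x y h
  refine SemidirectProduct.ext (funext fun k => ?_)
    (Equiv.Perm.viaEmbeddingHom_injective j (congrArg SemidirectProduct.right h))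
  have h1 := congrFun (congrArg SemidirectProduct.left h) (j k)
  change Function.extend j x.left 1 (j k) = Function.extend j y.left 1 (j k) at h1
  rwa [j.injective.extend_apply, j.injective.extend_apply] at h1

/-- wreathing with a cycle of length `p` -/
theorem cycle_step {A : Type u} [Group A] [Finite A] (hA : IsPGroup p A) {d : ℕ} (hd : derivedSeries A d ≠ ⊥) :
    ∃ T : Subgroup (Wr A (Fin p)), IsPGroup p T ∧ derivedSeries T (d + 1) ≠ ⊥ := by
  have hp : p.Prime := Fact.out
  have : NeZero p := ⟨hp.ne_zero⟩
  set c : Equiv.Perm (Fin p) := Equiv.addRight (1 : Fin p) with hc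
  have hc0 : c.symm 1 = 0 := by simp [hc, Equiv.symm_apply_eq]
  refine ⟨wrSub (1 : A →* Unit) (Subgroup.zpowers c), ?_, ?_⟩
  · obtain ⟨a, ha⟩ := IsPGroup.iff_card.1 hA
    have hcp : ∀ j : ℕ, ∀ x : Fin p, (c ^ j) x = x + j • (1 : Fin p) := by
      intro j
      induction j with
      | zero => simp
      | succ j ih => intro x; rw [pow_succ', Equiv.Perm.mul_apply, ih, hc, succ_nsmul]; simp [add_assoc]
    have hco : c ^ p = 1 := Equiv.ext fun x => by
      have h0 : p • (1 : Fin p) = 0 := by simpa using card_nsmul_eq_zero (x := (1 : Fin p))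
      rw [hcp, h0, add_zero]; rfl
    obtain ⟨b, -, hb⟩ := (Nat.dvd_prime_pow hp).1
      (show Nat.card (Subgroup.zpowers c) ∣ p ^ 1 by
        rw [pow_one, Nat.card_zpowers]; exact orderOf_dvd_of_pow_eq_one hco)
    refine IsPGroup.of_card (n := a * p + b) ?_
    let e : wrSub (1 : A →* Unit) (Subgroup.zpowers c) ≃ (Fin p → A) × Subgroup.zpowers c :=
      { toFun := fun x => (x.1.left, ⟨x.1.right, x.2.2⟩)
        invFun := fun y => ⟨⟨y.1, y.2.1⟩, Subsingleton.elim _ _, y.2.2⟩
        left_inv := fun _ => rfl
        right_inv := fun _ => rfl }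
    rw [Nat.card_congr e, Nat.card_prod, Nat.card_fun, Nat.card_fin, ha, hb, ← pow_mul, ← pow_add]
  · set T := wrSub (1 : A →* Unit) (Subgroup.zpowers c) with hT
    let base : (Fin p → A) →* T := SemidirectProduct.inl.codRestrict T fun f => ⟨Subsingleton.elim _ _, one_mem _⟩
    let K : Subgroup (Fin p → A) := (commutator T).comap base
    let φ : K →* A := (Pi.evalMonoidHom (fun _ : Fin p => A) 0).comp K.subtype
    have hφ : Function.Surjective φ := fun a => by
      classical
      let t : T := ⟨SemidirectProduct.inr c, Subsingleton.elim _ _, Subgroup.mem_zpowers c⟩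
      let s : T := base (Pi.mulSingle (0 : Fin p) a : Fin p → A)
      have hmem : (Pi.mulSingle 0 a * (Pi.mulSingle 1 a)⁻¹ : Fin p → A) ∈ K := by
        show base _ ∈ commutator T
        have e : base (Pi.mulSingle 0 a * (Pi.mulSingle 1 a)⁻¹) = ⁅s, t⁆ := by
          refine Subtype.ext ?_
          show SemidirectProduct.inl _ = SemidirectProduct.inl (Pi.mulSingle (0 : Fin p) a : Fin p → A) * SemidirectProduct.inr c *
            (SemidirectProduct.inl (Pi.mulSingle (0 : Fin p) a : Fin p → A))⁻¹ * (SemidirectProduct.inr c)⁻¹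
          rw [mul_assoc (SemidirectProduct.inl _), mul_assoc (SemidirectProduct.inl _), ← map_inv SemidirectProduct.inl,
            ← map_inv SemidirectProduct.inr, ← SemidirectProduct.inl_aut, ← map_mul]
          congr 1
          congr 1
          funext i
          show ((Pi.mulSingle (1 : Fin p) a : Fin p → A) i)⁻¹ = ((Pi.mulSingle (0 : Fin p) a : Fin p → A) (c.symm i))⁻¹
          congr 1
          by_cases hi : i = 1
          · subst hi; rw [hc0, Pi.mulSingle_eq_same, Pi.mulSingle_eq_same]
          · rw [Pi.mulSingle_eq_of_ne hi, Pi.mulSingle_eq_of_ne fun h => hi (by rwa [← hc0, c.symm.injective.eq_iff] at h)]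
        rw [e, commutator_def]
        exact Subgroup.commutator_mem_commutator (Subgroup.mem_top _) (Subgroup.mem_top _)
      refine ⟨⟨_, hmem⟩, ?_⟩
      show (Pi.mulSingle 0 a * (Pi.mulSingle 1 a)⁻¹ : Fin p → A) 0 = a
      have h01 : (0 : Fin p) ≠ 1 := fun h => by
        have h' := congrArg Fin.val h
        rw [Fin.val_zero, Fin.val_one', Nat.mod_eq_of_lt hp.one_lt] at h'
        omega
      rw [Pi.mul_apply, Pi.inv_apply, Pi.mulSingle_eq_same, Pi.mulSingle_eq_of_ne h01, inv_one, mul_one]
    intro hbot
    refine hd ?_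
    rw [← map_derivedSeries_eq hφ d, Subgroup.map_eq_bot_iff]
    intro z hz
    have h1 := map_derived_le (base.comp K.subtype) (by rintro _ ⟨w, rfl⟩; exact w.2) d ⟨z, hz, rfl⟩
    rw [hbot, Subgroup.mem_bot] at h1
    have h2 : z.1 = 1 := SemidirectProduct.inl_injective ((congrArg Subtype.val h1).trans (map_one _).symm)
    show z.1 0 = 1
    rw [h2]; rfl

theorem exists_deep_p :
    ∀ (a w : ℕ), p ^ a ≤ w → ∀ (A : Type u) [Group A] [Finite A], IsPGroup p A → ∀ d, derivedSeries A d ≠ ⊥ →
      ∃ H : Subgroup (Wr A (Fin w)), IsPGroup p H ∧ derivedSeries H (d + a) ≠ ⊥ := by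
  intro a
  induction a with
  | zero =>
    intro w hw A _ _ hA d hd
    classical
    let k₀ : Fin w := ⟨0, by rw [pow_zero] at hw; omega⟩
    let e : A →* Wr A (Fin w) := SemidirectProduct.inl.comp (MonoidHom.mulSingle (fun _ : Fin w => A) k₀)
    have he : Function.Injective e := fun x y h => by
      simpa [e] using congrArg (fun z : Wr A (Fin w) => z.left k₀) h
    refine ⟨e.range, hA.of_surjective e.rangeRestrict e.rangeRestrict_surjective, fun hbot => hd ?_⟩
    have h := map_derivedSeries_le_derivedSeries e.rangeRestrict d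
    rw [show derivedSeries e.range d = ⊥ from hbot, le_bot_iff,
      Subgroup.map_eq_bot_iff_of_injective _ (e.rangeRestrict_injective_iff.2 he)] at h
    exact h
  | succ a ih =>
    intro w hw A _ _ hA d hd
    have hp : p.Prime := Fact.out
    have : NeZero p := ⟨hp.ne_zero⟩
    obtain ⟨T, hT, hTd⟩ := cycle_step hA hd
    have : Finite (Wr A (Fin p)) := Finite.of_injective (fun x : Wr A (Fin p) => (x.left, x.right))
      fun x y h => SemidirectProduct.ext (Prod.ext_iff.1 h).1 (Prod.ext_iff.1 h).2
    obtain ⟨H, hH, hHd⟩ := ih (p ^ a) le_rfl T hT (d + 1) hTd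
    let j : Fin (p ^ a) × Fin p ↪ Fin w :=
      finProdFinEquiv.toEmbedding.trans (Fin.castLEEmb (by rw [← pow_succ]; exact hw))
    let Ψ : Wr T (Fin (p ^ a)) →* Wr A (Fin w) := (extend j).comp (flat T.subtype)
    have hΨ : Function.Injective Ψ := (extend_injective j).comp (flat_injective _ T.subtype_injective)
    refine ⟨H.map Ψ, hH.map Ψ, fun hbot => hHd ?_⟩
    have h := map_derivedSeries_le_derivedSeries (H.equivMapOfInjective Ψ hΨ).toMonoidHom (d + 1 + a)
    rw [show d + (a + 1) = d + 1 + a by ring] at hbot
    rw [hbot, le_bot_iff, Subgroup.map_eq_bot_iff_of_injective _ (H.equivMapOfInjective Ψ hΨ).injective] at h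
    exact h

end Cfsg.Agent.SylowDL
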